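import Groth.Agent.DMInfLib.Stack
import Groth.Agent.ASt.FibMaps
import Groth.Agent.ASt.Stack
/-!
The automorphism condition in terms of automorphisms of functors out of slices.
-/

set_option autoImplicit false
set_option backward.isDefEq.respectTransparency false
set_option backward.isDefEq.respectTransparency.types false
set_option linter.unusedSectionVars false
set_option linter.style.haveILetI false

universe u

open CategoryTheory CategoryTheory.Limits AlgebraicGeometry Opposite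

namespace Groth.Agent.DMInfLib

open Groth.Agent.ASt

variable {S : Scheme.{u}} {𝒳 𝒴 : AlgSt.Cat S} [FibCat.IsFibGrpd 𝒳.p] [FibCat.IsFibGrpd 𝒴.p] {f : 𝒳 ⥤ᵇ 𝒴}

/-- The condition of the statement. -/
def AutTrivFun (f : 𝒳 ⥤ᵇ 𝒴) : Prop :=
  ∀ (A A₀ : Type u) [CommRing A] [IsArtinianRing A] [IsLocalRing A] [CommRing A₀] [IsLocalRing A₀]
    (φ : A →+* A₀) (_ : Function.Surjective φ) (_ : IsSimpleModule A (RingHom.ker φ))
    (sA : Spec (CommRingCat.of A) ⟶ S)
    (xt : FibCat.overCat (Over.mk sA) ⥤ᵇ 𝒳) (Θ : xt ≅ xt),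
    BasedCategory.whiskerLeft (AlgSt.overMap (jOf φ sA)) Θ.hom =
      𝟙 (BasedFunctor.comp (AlgSt.overMap (jOf φ sA)) xt) →
    BasedCategory.whiskerRight Θ.hom f = 𝟙 (BasedFunctor.comp xt f) →
    Θ.hom = 𝟙 xt

theorem autTrivFun_of_autTriv (h : AutTriv f) : AutTrivFun f := by
  intro A A₀ _ _ _ _ _ φ hφ hs sA xt Θ hl hr
  let o₀ := (AlgSt.overMap (jOf φ sA)).obj (ov (𝟙 _))
  let v : xt.obj (ov (𝟙 _)) ⟶ xt.obj (ov (𝟙 _)) := Θ.hom.toNatTrans.app (ov (𝟙 _))
  have hmap : ∀ g, 𝒳.p.map (Θ.hom.toNatTrans.app g) = eqToHom ((xt.w_obj g).trans (xt.w_obj g).symm) :=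
    fun g => map_app _ _ Θ.hom g
  have hv : 𝒳.p.map v = 𝟙 _ := (hmap _).trans (eqToHom_refl _ _)
  have h0 : Θ.hom.toNatTrans.app o₀ = 𝟙 _ := app_eq_of_eq hl (ov (𝟙 _))
  have h1 : f.map v = 𝟙 _ := app_eq_of_eq hr (ov (𝟙 _))
  have hmv : xt.map (toTop o₀) ≫ v = xt.map (toTop o₀) := by
    have := Θ.hom.toNatTrans.naturality (toTop o₀)
    rw [h0] at this
    exact this.trans (Category.id_comp _)
  have hv1 : v = 𝟙 _ := h A A₀ φ hφ hs sA (xt.obj (ov (𝟙 _))) (xt.obj o₀) (xt.w_obj _) (xt.w_obj _)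
    (xt.map (toTop o₀)) (by
      rw [map_toTop]
      change _ ≫ (𝟙 _ ≫ jOf φ sA) ≫ _ = _
      rw [Category.id_comp]) v hv h1 hmv
  refine basedHom_ext fun g => ASt.hom_ext (xt.map (toTop g)) ?_ ?_
  · exact (hmap g).trans ((eqToHom_refl _ _).trans (CategoryTheory.Functor.map_id 𝒳.p (xt.obj g)).symm)
  · exact (Θ.hom.toNatTrans.naturality (toTop g)).symm.trans
      ((congrArg (xt.map (toTop g) ≫ ·) hv1).trans ((Category.comp_id _).trans (Category.id_comp _).symm))

theorem autTriv_of_autTrivFun (h : AutTrivFun f) : AutTriv f := by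
  intro A A₀ _ _ _ _ _ φ hφ hs sA x x₀ hx hx₀ m hm v hv hfv hmv
  let Y := objFun x hx
  let P : Y.obj (ov (𝟙 _)) ⟶ x := pullHom x hx (𝟙 _)
  haveI : IsIso P := by
    have : IsIso (𝒳.p.map P) := by rw [map_pullHom]; infer_instance
    exact isIso_of_isIso_map _
  let a : Y.obj (ov (𝟙 _)) ⟶ Y.obj (ov (𝟙 _)) := P ≫ v ≫ inv P
  have ha : 𝒳.p.map a = eqToHom ((Y.w_obj _).trans (Y.w_obj _).symm) := by
    simp [a, hv]
  let Θ := funIso (y := Y) (y' := Y) a ha
  have hfa : f.map a = 𝟙 _ := by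
    simp only [a, f.toFunctor.map_comp, hfv, Category.id_comp]
    rw [← f.toFunctor.map_comp, IsIso.hom_inv_id, f.toFunctor.map_id]
  have hmap : ∀ g, 𝒳.p.map (Θ.hom.toNatTrans.app g) = eqToHom ((Y.w_obj g).trans (Y.w_obj g).symm) :=
    fun g => map_app _ _ Θ.hom g
  have hl : BasedCategory.whiskerLeft (AlgSt.overMap (jOf φ sA)) Θ.hom =
      𝟙 (BasedFunctor.comp (AlgSt.overMap (jOf φ sA)) Y) := by
    refine basedHom_ext fun o => ?_
    let g := (AlgSt.overMap (jOf φ sA)).obj o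
    show Θ.hom.toNatTrans.app g = 𝟙 (Y.obj g)
    refine ASt.hom_ext (Y.map (toTop g)) ((hmap g).trans ((eqToHom_refl _ _).trans (CategoryTheory.Functor.map_id 𝒳.p (Y.obj g)).symm)) ?_
    refine (funIso_app a ha g).trans (Eq.trans ?_ (Category.id_comp _).symm)
    refine (cancel_mono P).1 ?_
    have h1 : Y.map (toTop g) ≫ P = pullHom x hx g.hom := objMap_comp x hx (toTop g)
    let i := facMap m (pullHom x hx g.hom) (eqToHom (pull_base x hx g.hom) ≫ o.hom ≫ eqToHom hx₀.symm) (by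
      rw [map_pullHom, hm]
      simp only [Category.assoc, eqToHom_trans_assoc, eqToHom_refl, Category.id_comp]
      change _ = eqToHom (pull_base x hx g.hom) ≫ (o.hom ≫ jOf φ sA) ≫ eqToHom hx.symm
      rw [Category.assoc])
    have hi : i ≫ m = pullHom x hx g.hom := facMap_comp _ _ _ _
    simp only [a, Category.assoc, IsIso.inv_hom_id, Category.comp_id]
    rw [← Category.assoc, h1, ← hi, Category.assoc, hmv]
  have hr : BasedCategory.whiskerRight Θ.hom f = 𝟙 (BasedFunctor.comp Y f) := by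
    refine basedHom_ext fun g => ?_
    show f.map (Θ.hom.toNatTrans.app g) = 𝟙 (f.obj (Y.obj g))
    refine ASt.hom_ext (f.map (Y.map (toTop g))) ?_ ?_
    · rw [map_w, hmap]
      simp
    · rw [← f.toFunctor.map_comp, funIso_app a ha g, f.toFunctor.map_comp, hfa, Category.comp_id, Category.id_comp]
  have h0 := app_eq_of_eq (h A A₀ φ hφ hs sA Y Θ hl hr) (ov (𝟙 _))
  have h2 := funIso_app a ha (ov (𝟙 (Over.mk sA)))
  rw [h0] at h2
  have ht : toTop (ov (𝟙 (Over.mk sA))) = 𝟙 _ := Over.OverMorphism.ext rfl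
  rw [ht, Y.toFunctor.map_id] at h2
  have h3 : a = 𝟙 _ := (Category.id_comp a).symm.trans (h2.symm.trans (Category.id_comp _))
  have h4 : P ≫ v = P := by
    have := congrArg (· ≫ P) h3
    simpa [a] using this
  exact (cancel_epi P).1 (h4.trans (Category.comp_id P).symm)

theorem isDMMor_iff_autTrivFun (hl : AlgSt.RepByAlgSpWith (AlgSp.LocP @LocallyOfFiniteType) (FibCat.diag f)) :
    AlgSt.IsDMMor f ↔ AutTrivFun f :=
  ⟨fun h => autTrivFun_of_autTriv (autTriv_of_isDMMor h),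
    fun h => isDMMor_of_autTriv hl (autTriv_of_autTrivFun h)⟩

end Groth.Agent.DMInfLib
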