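import Groth.Agent.S18905
import Groth.Agent.FlatLocus.SmoothFibres
import Mathlib.AlgebraicGeometry.Morphisms.LocalFlatDescent
import Mathlib.FieldTheory.IsAlgClosed.AlgebraicClosure
/-!
Unramifiedness is detected by maps from dual numbers over algebraically closed fields, and the dual
numbers form a small extension.
-/

set_option autoImplicit false
set_option backward.isDefEq.respectTransparency false

universe u

open CategoryTheory CategoryTheory.Limits AlgebraicGeometry

namespace Groth.Agent.DMInfLib

/-- Unramifiedness from tangent vectors at geometric points. -/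
theorem formallyUnramified_of_dualNumber {V U : Scheme.{u}} (h : V ⟶ U) [LocallyOfFiniteType h]
    (H : ∀ (k : Type u) [Field k] [IsAlgClosed k] (d : Spec (CommRingCat.of k) ⟶ U)
      (v₁ v₂ : Spec (CommRingCat.of (DualNumber k)) ⟶ V),
      v₁ ≫ h = Spec.map (CommRingCat.ofHom (algebraMap k (DualNumber k))) ≫ d →
      v₂ ≫ h = Spec.map (CommRingCat.ofHom (algebraMap k (DualNumber k))) ≫ d →
      Spec.map (CommRingCat.ofHom (TrivSqZeroExt.fstHom k k k).toRingHom) ≫ v₁ =
        Spec.map (CommRingCat.ofHom (TrivSqZeroExt.fstHom k k k).toRingHom) ≫ v₂ → v₁ = v₂) :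
    FormallyUnramified h := by
  refine Groth.Agent.FlatLocus.formallyUnramified_of_fibres h fun y => ?_
  let K : Type u := AlgebraicClosure (U.residueField y)
  let e : Spec (CommRingCat.of K) ⟶ Spec (U.residueField y) :=
    Spec.map (CommRingCat.ofHom (algebraMap (U.residueField y) K))
  haveI : Flat e := by
    rw [HasRingHomProperty.Spec_iff (P := @Flat)]
    exact RingHom.flat_algebraMap_iff.2 inferInstance
  haveI : Surjective e := ⟨fun t => ⟨IsLocalRing.closedPoint K,
    @Subsingleton.elim _ (inferInstanceAs (Subsingleton (PrimeSpectrum (U.residueField y)))) _ _⟩⟩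
  let d : Spec (CommRingCat.of K) ⟶ U := e ≫ U.fromSpecResidueField y
  haveI hX : FormallyUnramified (pullback.snd h d) := by
    refine (Groth.Agent.S18905.result K (pullback.snd h d)).2 fun v₁ v₂ h₁ h₂ h₀ => ?_
    refine pullback.hom_ext (H K d _ _ ?_ ?_ ?_) (h₁.trans h₂.symm)
    · rw [Category.assoc, pullback.condition, reassoc_of% h₁]
    · rw [Category.assoc, pullback.condition, reassoc_of% h₂]
    · rw [reassoc_of% h₀]
  let g : pullback h d ⟶ h.fiber y := pullback.lift (pullback.fst h d) (pullback.snd h d ≫ e) (by
    rw [Category.assoc]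
    exact pullback.condition)
  have hg : g ≫ h.fiberToSpecResidueField y = pullback.snd h d ≫ e := pullback.lift_snd _ _ _
  have sq : IsPullback g (pullback.snd h d) (h.fiberToSpecResidueField y) e := by
    refine IsPullback.of_right ?_ hg (IsPullback.of_hasPullback h (U.fromSpecResidueField y))
    rw [show g ≫ pullback.fst h (U.fromSpecResidueField y) = pullback.fst h d from pullback.lift_fst _ _ _]
    exact IsPullback.of_hasPullback h d
  exact MorphismProperty.DescendsAlong.of_isPullback (P := @FormallyUnramified)
    (Q := @Surjective ⊓ @Flat ⊓ @QuasiCompact) sq.flip ⟨⟨inferInstance, inferInstance⟩, inferInstance⟩ hX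

theorem isArtinianRing_dualNumber (k : Type u) [Field k] : IsArtinianRing (DualNumber k) := by
  haveI : Module.Finite k (DualNumber k) := inferInstanceAs (Module.Finite k (k × k))
  exact IsArtinianRing.of_finite k (DualNumber k)

theorem isSimpleModule_ker_fst (k : Type u) [Field k] :
    IsSimpleModule (DualNumber k) (RingHom.ker (TrivSqZeroExt.fstHom k k k).toRingHom) := by
  rw [isSimpleModule_iff_isAtom]
  refine ⟨fun e => ?_, fun J hJ => ?_⟩
  · have : (DualNumber.eps : DualNumber k) ∈ RingHom.ker (TrivSqZeroExt.fstHom k k k).toRingHom := by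
      simp [RingHom.mem_ker]
    rw [e] at this
    have h1 := congrArg TrivSqZeroExt.snd ((Submodule.mem_bot _).1 this)
    simp at h1
  · refine (Submodule.eq_bot_iff _).2 fun a ha => ?_
    by_contra hne
    refine not_le_of_gt hJ fun b hb => ?_
    have ha0 : a.fst = 0 := hJ.le ha
    have hb0 : b.fst = 0 := hb
    have ha1 : a.snd ≠ 0 := fun e => hne (TrivSqZeroExt.ext ha0 e)
    have : b = TrivSqZeroExt.inl (b.snd * a.snd⁻¹) * a := by
      ext <;> simp [ha0, hb0, mul_assoc, inv_mul_cancel₀ ha1]
    rw [this]
    exact Submodule.smul_mem J _ ha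

end Groth.Agent.DMInfLib
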