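import Groth.Agent.DMInfLib.Scheme
import Groth.Agent.ASp.Infinitesimal
import Groth.Agent.ASt.DiagLft
import Groth.Agent.KPointChart.IsoDef
/-!
Unramified diagonal and automorphisms of infinitesimal deformations.
-/

set_option autoImplicit false
set_option backward.isDefEq.respectTransparency false
set_option backward.isDefEq.respectTransparency.types false
set_option linter.unusedSectionVars false
set_option linter.style.haveILetI false

universe u

open CategoryTheory CategoryTheory.Limits AlgebraicGeometry Opposite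

namespace Groth.Agent.DMInfLib

open _root_.AlgSp Groth.Agent.ASp Groth.Agent.ASt Groth.Agent.Inf

variable {S : Scheme.{u}} {𝒳 𝒴 : AlgSt.Cat S} [FibCat.IsFibGrpd 𝒳.p] [FibCat.IsFibGrpd 𝒴.p]

/-- The morphism of test objects of a ring map. -/
noncomputable abbrev jOf {A A₀ : Type u} [CommRing A] [CommRing A₀] (φ : A →+* A₀)
    (sA : Spec (CommRingCat.of A) ⟶ S) : Over.mk (Spec.map (CommRingCat.ofHom φ) ≫ sA) ⟶ Over.mk sA :=
  Over.homMk (Spec.map (CommRingCat.ofHom φ)) rfl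

/-- Automorphisms over the base which are trivial on a small restriction are trivial. -/
def AutTriv (f : 𝒳 ⥤ᵇ 𝒴) : Prop :=
  ∀ (A A₀ : Type u) [CommRing A] [IsArtinianRing A] [IsLocalRing A] [CommRing A₀] [IsLocalRing A₀]
    (φ : A →+* A₀) (_ : Function.Surjective φ) (_ : IsSimpleModule A (RingHom.ker φ))
    (sA : Spec (CommRingCat.of A) ⟶ S) (x x₀ : 𝒳.obj) (hx : 𝒳.p.obj x = Over.mk sA)
    (hx₀ : 𝒳.p.obj x₀ = Over.mk (Spec.map (CommRingCat.ofHom φ) ≫ sA)) (m : x₀ ⟶ x)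
    (_ : 𝒳.p.map m = eqToHom hx₀ ≫ jOf φ sA ≫ eqToHom hx.symm) (v : x ⟶ x),
    𝒳.p.map v = 𝟙 _ → f.map v = 𝟙 _ → m ≫ v = m → v = 𝟙 x

variable {f : 𝒳 ⥤ᵇ 𝒴}

theorem diag_iso (x : 𝒳.obj) : ((FibCat.diag f).obj x).obj.iso.hom = 𝟙 (f.obj x) := rfl

theorem vert_fst {m n : (FibCat.fp f f).obj} (B : m ⟶ n) {T : Over S} (hm : 𝒳.p.obj m.obj.fst = T)
    (hn : 𝒳.p.obj n.obj.fst = T) (h : (FibCat.fp f f).p.map B = eqToHom (hm.trans hn.symm)) :
    𝒳.p.map B.hom.fst = eqToHom (hm.trans hn.symm) ∧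
      𝒳.p.map B.hom.snd = eqToHom ((fp_snd_base m).trans (hm.trans (hn.symm.trans (fp_snd_base n).symm))) := by
  refine ⟨h, ?_⟩
  rw [fp_map_snd]
  have h' : 𝒳.p.map B.hom.fst = eqToHom (hm.trans hn.symm) := h
  rw [h']
  simp

/-- Uniqueness of lifts from the trivial-automorphism condition, for two classes. -/
theorem eq_of_autTriv (h : AutTriv f) {A A₀ : Type u} [CommRing A] [IsArtinianRing A] [IsLocalRing A] [CommRing A₀]
    [IsLocalRing A₀] (φ : A →+* A₀) (hφ : Function.Surjective φ) (hs : IsSimpleModule A (RingHom.ker φ))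
    (sA : Spec (CommRingCat.of A) ⟶ S) {U : Over S} {y : FibCat.overCat U ⥤ᵇ FibCat.fp f f}
    (c c' : ClType (FibCat.fp y (FibCat.diag f)) (Over.mk sA)) (he : fpHom c = fpHom c')
    (h₀ : clMap (jOf φ sA) c = clMap (jOf φ sA) c') : c = c' := by
  haveI : FibCat.IsFibGrpd (FibCat.fp f f).p := isFibGrpd_fp
  obtain ⟨k, x, hx, Φ, hΦ, rfl⟩ := fpEl_exists c
  obtain ⟨k', x', hx', Φ', hΦ', rfl⟩ := fpEl_exists c'
  obtain rfl : k = k' := (fpHom_fpEl _ _ _ _ _).symm.trans (he.trans (fpHom_fpEl _ _ _ _ _))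
  clear he
  haveI : IsIso Φ := isIso_of_vert Φ hΦ
  haveI : IsIso Φ' := isIso_of_vert Φ' hΦ'
  let B : (FibCat.diag f).obj x ⟶ (FibCat.diag f).obj x' := inv Φ ≫ Φ'
  have hB : (FibCat.fp f f).p.map B = eqToHom ((((FibCat.diag f).w_obj x).trans hx).trans
      (hx'.symm.trans ((FibCat.diag f).w_obj x').symm)) := by
    rw [Functor.map_comp, Functor.map_inv, IsIso.inv_comp_eq, hΦ, hΦ', eqToHom_trans]
  obtain ⟨hB₁, hB₂⟩ := vert_fst B (T := Over.mk sA) hx hx' (hB.trans rfl)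
  let β₁ : x ⟶ x' := B.hom.fst
  let β₂ : x ⟶ x' := B.hom.snd
  have hβ₁ : 𝒳.p.map β₁ = eqToHom (hx.trans hx'.symm) := hB₁
  have hβ₂ : 𝒳.p.map β₂ = eqToHom (hx.trans hx'.symm) := hB₂.trans rfl
  haveI : IsIso β₁ := isIso_of_vert β₁ hβ₁
  haveI : IsIso β₂ := isIso_of_vert β₂ hβ₂
  have hfβ : f.map β₁ = f.map β₂ := by
    have w : f.map β₁ ≫ ((FibCat.diag f).obj x').obj.iso.hom = ((FibCat.diag f).obj x).obj.iso.hom ≫ f.map β₂ :=
      B.hom.w
    rw [diag_iso, diag_iso, Category.comp_id] at w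
    exact w.trans (Category.id_comp _)
  -- restrict
  let j := jOf φ sA
  let yj : y.obj (ov (j ≫ k)) ⟶ y.obj (ov k) := y.map (ovHom j rfl)
  let m := pullHom x hx j
  let m' := pullHom x' hx' j
  let Φ₀ : y.obj (ov (j ≫ k)) ⟶ (FibCat.diag f).obj (pull x hx j) := facMap ((FibCat.diag f).map m) (yj ≫ Φ)
    (eqToHom (((y.w_obj _).trans (ov_base _)).trans ((pull_base x hx j).symm.trans ((FibCat.diag f).w_obj _).symm)))
    (by rw [Functor.map_comp, map_w (FibCat.diag f), map_w y, hΦ, map_pullHom, ov_p_map]; simp only [Category.assoc, eqToHom_trans, eqToHom_trans_assoc, eqToHom_refl, Category.id_comp, Category.comp_id, j]; rfl)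
  let Φ₀' : y.obj (ov (j ≫ k)) ⟶ (FibCat.diag f).obj (pull x' hx' j) := facMap ((FibCat.diag f).map m') (yj ≫ Φ')
    (eqToHom (((y.w_obj _).trans (ov_base _)).trans ((pull_base x' hx' j).symm.trans ((FibCat.diag f).w_obj _).symm)))
    (by rw [Functor.map_comp, map_w (FibCat.diag f), map_w y, hΦ', map_pullHom, ov_p_map]; simp only [Category.assoc, eqToHom_trans, eqToHom_trans_assoc, eqToHom_refl, Category.id_comp, Category.comp_id, j]; rfl)
  have hΦ₀ : (FibCat.fp f f).p.map Φ₀ = eqToHom _ := map_facMap _ _ _ _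
  have hΦ₀' : (FibCat.fp f f).p.map Φ₀' = eqToHom _ := map_facMap _ _ _ _
  rw [clMap_fpEl j rfl (hx' := pull_base x hx j) (φ' := Φ₀) (hφ' := hΦ₀) m (facMap_comp _ _ _ _).symm,
    clMap_fpEl j rfl (hx' := pull_base x' hx' j) (φ' := Φ₀') (hφ' := hΦ₀') m' (facMap_comp _ _ _ _).symm] at h₀
  obtain ⟨γ, hγ, hγ'⟩ := fpEl_eq_iff.1 h₀
  haveI : IsIso Φ₀ := isIso_of_vert Φ₀ hΦ₀
  have e₀ : (FibCat.diag f).map m ≫ B = (FibCat.diag f).map γ ≫ (FibCat.diag f).map m' := by
    refine (cancel_epi Φ₀).1 ?_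
    have e1 : Φ₀ ≫ (FibCat.diag f).map m = yj ≫ Φ := facMap_comp _ _ _ _
    have e2 : Φ₀' ≫ (FibCat.diag f).map m' = yj ≫ Φ' := facMap_comp _ _ _ _
    rw [← Category.assoc Φ₀, e1, ← Category.assoc Φ₀, hγ', e2]
    simp [B]
  have e₁ : m ≫ β₁ = γ ≫ m' := congrArg (fun t => t.hom.fst) e₀
  have e₂ : m ≫ β₂ = γ ≫ m' := congrArg (fun t => t.hom.snd) e₀
  have hv : β₁ ≫ inv β₂ = 𝟙 x := h A A₀ φ hφ hs sA x (pull x hx j) hx (pull_base x hx j) m
    (by simp [m, j]) (β₁ ≫ inv β₂)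
    (by rw [Functor.map_comp, Functor.map_inv, hβ₁]; simp [hβ₂])
    (by rw [f.toFunctor.map_comp, f.toFunctor.map_inv, hfβ, IsIso.hom_inv_id])
    (by rw [← Category.assoc, e₁, ← e₂, Category.assoc, IsIso.hom_inv_id, Category.comp_id])
  have hββ : β₁ = β₂ := by
    have := congrArg (· ≫ β₂) hv
    simpa using this
  refine fpEl_eq_iff.2 ⟨β₁, hβ₁, ?_⟩
  have : (FibCat.diag f).map β₁ = B := fp_hom_ext rfl hββ
  rw [this]
  simp [B]

theorem eq_of_etale {F : Sp S} {V : Over S} {p : (yon S).obj V ⟶ F} (hp : RepWith @Etale p) {T₀ T : Over S}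
    (j : T₀ ⟶ T) [IsClosedImmersion j.left] (hn : IsNilpotent j.left.ker) (u₁ u₂ : T ⟶ V)
    (e₀ : j ≫ u₁ = j ≫ u₂) (e : (yon S).map u₁ ≫ p = (yon S).map u₂ ≫ p) : u₁ = u₂ := by
  obtain ⟨W, a, b, hW⟩ := exists_isPullback_yon hp.1 ((yon S).map u₁ ≫ p)
  haveI : Etale b.left := hp.2 _ _ _ hW
  obtain ⟨σ₁, h₁⟩ := (yon S).map_surjective (hW.lift ((yon S).map u₁) ((yon S).map (𝟙 T)) (by simp))
  obtain ⟨σ₂, h₂⟩ := (yon S).map_surjective (hW.lift ((yon S).map u₂) ((yon S).map (𝟙 T)) (by simp [e]))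
  have a₁ : σ₁ ≫ a = u₁ := (yon S).map_injective (by rw [Functor.map_comp, h₁, hW.lift_fst])
  have a₂ : σ₂ ≫ a = u₂ := (yon S).map_injective (by rw [Functor.map_comp, h₂, hW.lift_fst])
  have b₁ : σ₁ ≫ b = 𝟙 T := (yon S).map_injective (by rw [Functor.map_comp, h₁, hW.lift_snd])
  have b₂ : σ₂ ≫ b = 𝟙 T := (yon S).map_injective (by rw [Functor.map_comp, h₂, hW.lift_snd])
  have e₁ : j ≫ σ₁ = j ≫ σ₂ := (yon S).map_injective (hW.hom_ext
    (by rw [← Functor.map_comp, ← Functor.map_comp, Category.assoc, a₁, Category.assoc, a₂, e₀])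
    (by rw [← Functor.map_comp, ← Functor.map_comp, Category.assoc, b₁, Category.assoc, b₂]))
  have : σ₁ = σ₂ := Over.OverMorphism.ext (FormallyUnramified.hom_ext j.left hn b.left
    (by rw [← Over.comp_left, e₁, Over.comp_left]) (by rw [← Over.comp_left, ← Over.comp_left, b₁, b₂]))
  rw [← a₁, ← a₂, this]

/-- Trivial infinitesimal automorphisms give unramified diagonal. -/
theorem isDMMor_of_autTriv (hl : AlgSt.RepByAlgSpWith (LocP @LocallyOfFiniteType) (FibCat.diag f))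
    (h : AutTriv f) : AlgSt.IsDMMor f := by
  haveI : FibCat.IsFibGrpd (FibCat.fp f f).p := isFibGrpd_fp
  refine repByAlgSpWith_iff.2 ⟨(repByAlgSpWith_iff.1 hl).1, fun U y => ?_⟩
  obtain ⟨hs, hA, hlft⟩ := (repByAlgSpWith_iff.1 hl).2 U y
  refine ⟨hs, hA, fun V W p b k hp hb e => ⟨hlft p b k hp hb e, ?_⟩⟩
  haveI : LocallyOfFiniteType k.left := hlft p b k hp hb e
  refine formallyUnramified_of_dualNumber k.left fun K _ _ d v₁ v₂ h₁ h₂ h₀ => ?_
  haveI := isArtinianRing_dualNumber K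
  let φ : DualNumber K →+* K := (TrivSqZeroExt.fstHom K K K).toRingHom
  have hφ : Function.Surjective φ := fun r => ⟨TrivSqZeroExt.inl r, rfl⟩
  let sA : Spec (CommRingCat.of (DualNumber K)) ⟶ S := v₁ ≫ V.hom
  let j := jOf φ sA
  let u₁ : Over.mk sA ⟶ V := Over.homMk v₁ rfl
  let u₂ : Over.mk sA ⟶ V := Over.homMk v₂ (by
    show v₂ ≫ V.hom = v₁ ≫ V.hom
    rw [← Over.w k, reassoc_of% h₁, reassoc_of% h₂])
  haveI : IsClosedImmersion j.left := IsClosedImmersion.spec_of_surjective _ hφ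
  have hn : IsNilpotent j.left.ker := Boot.isNilpotent_ker_SpecMap (CommRingCat.ofHom φ) (by
    refine le_bot_iff.1 ?_
    rw [pow_two, Ideal.mul_le]
    intro a ha c hc
    have ha0 : a.fst = 0 := ha
    have hc0 : c.fst = 0 := hc
    show a * c = 0
    ext <;> simp [ha0, hc0])
  have e₀ : j ≫ u₁ = j ≫ u₂ := Over.OverMorphism.ext h₀
  have ek : u₁ ≫ k = u₂ ≫ k := Over.OverMorphism.ext (h₁.trans h₂.symm)
  refine congrArg (fun u => u.left) (eq_of_etale hp j hn u₁ u₂ e₀ (KPointChart.secOf_injective ?_) : u₁ = u₂)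
  refine eq_of_autTriv h φ hφ (isSimpleModule_ker_fst K) sA _ _ ?_ ?_
  · have e1 : ((yon S).map u₁ ≫ p) ≫ (ObjectProperty.homMk (fibπ y (FibCat.diag f)) :
        (⟨fib y (FibCat.diag f), hs⟩ : Sp S) ⟶ (yon S).obj U) = ((yon S).map u₂ ≫ p) ≫
          ObjectProperty.homMk (fibπ y (FibCat.diag f)) := by
      rw [Category.assoc, Category.assoc, e, ← Functor.map_comp_assoc, ek, Functor.map_comp_assoc]
    exact congrArg ULift.down (congrArg KPointChart.secOf e1)
  · have e1 : (yon S).map j ≫ ((yon S).map u₁ ≫ p) = (yon S).map j ≫ ((yon S).map u₂ ≫ p) := by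
      rw [← Functor.map_comp_assoc, e₀, Functor.map_comp_assoc]
    exact (KPointChart.secOf_map j ((yon S).map u₁ ≫ p)).symm.trans
      ((congrArg KPointChart.secOf e1).trans (KPointChart.secOf_map j ((yon S).map u₂ ≫ p)))

/-- Unramified diagonal gives trivial infinitesimal automorphisms. -/
theorem autTriv_of_isDMMor (hf : AlgSt.IsDMMor f) : AutTriv f := by
  haveI : FibCat.IsFibGrpd (FibCat.fp f f).p := isFibGrpd_fp
  intro A A₀ _ _ _ _ _ φ hφ hsim sA x x₀ hx hx₀ m hm v hv hfv hmv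
  let X := (FibCat.diag f).obj x
  have hX : (FibCat.fp f f).p.obj X = Over.mk sA := ((FibCat.diag f).w_obj x).trans hx
  let y := objFun X hX
  obtain ⟨hs, hA, hπ⟩ := (repByAlgSpWith_iff.1 hf).2 (Over.mk sA) y
  let F : Sp S := ⟨fib y (FibCat.diag f), hs⟩
  let π : F ⟶ (yon S).obj (Over.mk sA) := ObjectProperty.homMk (fibπ y (FibCat.diag f))
  have hF : IsAlgSpace F := hA
  obtain ⟨W, p, hpe, hps⟩ := hF.atlas
  obtain ⟨k, hk⟩ := (yon S).map_surjective (p ≫ π)
  have e : p ≫ π = (yon S).map k ≫ 𝟙 _ := by rw [Category.comp_id, hk]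
  haveI : FormallyUnramified k.left := (hπ p (𝟙 _) k hpe (repWith_id _ _) e).2
  -- the two classes
  let P : y.obj (ov (𝟙 (Over.mk sA))) ⟶ X := pullHom X hX (𝟙 _)
  let V₂ : X ⟶ X := fpHomMk (m := X) (n := X) v (𝟙 x) (by
    change f.map v ≫ ((FibCat.diag f).obj x).obj.iso.hom = ((FibCat.diag f).obj x).obj.iso.hom ≫ f.map (𝟙 x)
    rw [diag_iso, hfv]
    exact congrArg (𝟙 (f.obj x) ≫ ·) (f.toFunctor.map_id x).symm)
  have hP : (FibCat.fp f f).p.map P = eqToHom (((y.w_obj _).trans (ov_base _)).trans hX.symm) := by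
    rw [map_pullHom]
    simp
  have hPV : (FibCat.fp f f).p.map (P ≫ V₂) = eqToHom (((y.w_obj _).trans (ov_base _)).trans hX.symm) := by
    rw [Functor.map_comp, hP]
    change _ ≫ 𝒳.p.map v = _
    rw [hv]
    exact Category.comp_id _
  let c := fpEl (𝟙 (Over.mk sA)) x hx P (hP.trans rfl)
  let c' := fpEl (𝟙 (Over.mk sA)) x hx (P ≫ V₂) (hPV.trans rfl)
  let j := jOf φ sA
  haveI : IsIso (facMap (pullHom x hx j) m (eqToHom (hx₀.trans (pull_base x hx j).symm))
      (by rw [map_pullHom, hm]; simp [j])) := isIso_of_vert _ (map_facMap _ _ _ _)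
  have hmv' : pullHom x hx j ≫ v = pullHom x hx j := by
    rw [← cancel_epi (facMap (pullHom x hx j) m (eqToHom (hx₀.trans (pull_base x hx j).symm))
      (by rw [map_pullHom, hm]; simp [j])), ← Category.assoc, facMap_comp, hmv]
  have hmV : (FibCat.diag f).map (pullHom x hx j) ≫ V₂ = (FibCat.diag f).map (pullHom x hx j) :=
    fp_hom_ext hmv' (Category.comp_id _)
  let yj : y.obj (ov j) ⟶ y.obj (ov (𝟙 (Over.mk sA))) := y.map (ovHom j (Category.comp_id j))
  let P₀ : y.obj (ov j) ⟶ (FibCat.diag f).obj (pull x hx j) := facMap ((FibCat.diag f).map (pullHom x hx j)) (yj ≫ P)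
    (eqToHom (((y.w_obj _).trans (ov_base _)).trans ((pull_base x hx j).symm.trans ((FibCat.diag f).w_obj _).symm)))
    (by rw [Functor.map_comp, map_w (FibCat.diag f), map_w y, hP, map_pullHom, ov_p_map]; simp only [Category.assoc, eqToHom_trans, eqToHom_trans_assoc, eqToHom_refl, Category.id_comp, Category.comp_id, j]; rfl)
  have hP₀ : (FibCat.fp f f).p.map P₀ = eqToHom _ := map_facMap _ _ _ _
  have hP₀c : P₀ ≫ (FibCat.diag f).map (pullHom x hx j) = yj ≫ P := facMap_comp _ _ _ _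
  have hcl : clMap j c = clMap j c' := by
    rw [clMap_fpEl j (Category.comp_id j) (hx' := pull_base x hx j) (φ' := P₀) (hφ' := hP₀) (pullHom x hx j)
        (facMap_comp _ _ _ _).symm,
      clMap_fpEl j (Category.comp_id j) (hx' := pull_base x hx j) (φ' := P₀) (hφ' := hP₀) (pullHom x hx j)
        ((Category.assoc _ _ _).symm.trans ((congrArg (· ≫ V₂) hP₀c.symm).trans
          ((Category.assoc _ _ _).trans (congrArg (P₀ ≫ ·) hmV))))]
  -- square zero
  let I := RingHom.ker φ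
  have hI : I ^ 2 = ⊥ := by
    haveI := hsim
    have hne : I ≤ IsLocalRing.maximalIdeal A := IsLocalRing.le_maximalIdeal (RingHom.ker_ne_top φ)
    have hmax : (Module.annihilator A I).IsMaximal := IsSimpleModule.annihilator_isMaximal
    refine le_bot_iff.1 ?_
    rw [pow_two, Ideal.mul_le]
    intro a ha b hb
    have : a ∈ Module.annihilator A I := by rw [IsLocalRing.eq_maximalIdeal hmax]; exact hne ha
    exact congrArg Subtype.val (Module.mem_annihilator.1 this ⟨b, hb⟩)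
  let E := RingHom.quotientKerEquivOfSurjective hφ
  let g₀ : T0 I sA ⟶ Over.mk (Spec.map (CommRingCat.ofHom φ) ≫ sA) :=
    Over.homMk (Spec.map (CommRingCat.ofHom E.symm.toRingHom)) (by
      show Spec.map (CommRingCat.ofHom E.symm.toRingHom) ≫ Spec.map (CommRingCat.ofHom φ) ≫ sA = _
      rw [← Spec.map_comp_assoc]
      congr 2
      refine CommRingCat.hom_ext (RingHom.ext fun r => ?_)
      exact RingHom.quotientKerEquivOfSurjective_symm_apply hφ r)
  have hq : qI I sA = g₀ ≫ j := Over.OverMorphism.ext (by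
    show Spec.map _ = Spec.map _ ≫ Spec.map _
    rw [← Spec.map_comp]
    congr 1
    refine CommRingCat.hom_ext (RingHom.ext fun r => ?_)
    exact (RingHom.quotientKerEquivOfSurjective_symm_apply hφ r).symm)
  have hl := eq_of_chart hpe hps (repWith_id _ (Over.mk sA)) e hI
    (KPointChart.homOf (F := F) c) (KPointChart.homOf (F := F) c') (by
      rw [hq, Functor.map_comp, Category.assoc, Category.assoc]
      refine congrArg ((yon S).map g₀ ≫ ·) (KPointChart.secOf_injective ?_)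
      rw [KPointChart.secOf_map, KPointChart.secOf_map, KPointChart.secOf_homOf, KPointChart.secOf_homOf]
      exact hcl)
    (KPointChart.secOf_injective (by
      rw [KPointChart.secOf_comp, KPointChart.secOf_comp, KPointChart.secOf_homOf, KPointChart.secOf_homOf]
      change (⟨fpHom c⟩ : ULift _) = ⟨fpHom c'⟩
      rw [fpHom_fpEl, fpHom_fpEl]))
  have hcc : c = c' := by
    have := congrArg KPointChart.secOf hl
    rwa [KPointChart.secOf_homOf, KPointChart.secOf_homOf] at this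
  obtain ⟨γ, -, hγ⟩ := fpEl_eq_iff.1 hcc
  haveI : IsIso P := by
    have : IsIso ((FibCat.fp f f).p.map P) := by rw [hP]; infer_instance
    exact isIso_of_isIso_map _
  have h3 := (cancel_epi P).1 hγ
  have h4 : γ = v := congrArg (fun t => t.hom.fst) h3
  have h5 : γ = 𝟙 x := congrArg (fun t => t.hom.snd) h3
  exact h4.symm.trans h5

end Groth.Agent.DMInfLib
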